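import Cfsg.Agent.H557.ToralTypes
import Cfsg.Agent.ChevalleyStructure.HDiag
import Cfsg.Agent.ChevalleyStructure.Good
import Cfsg.Agent.Lib.ListFast
import Cfsg.Agent.ChevalleyStructure.JacAll
import Cfsg.Agent.ChevalleyStructure.Elts
import Cfsg.Agent.S1054
import Cfsg.Agent.FastGrp
import Cfsg.Agent.Prune
set_option linter.all false

-- part: H351/SpSix/RankE8
section
set_option linter.all false
open scoped Cfsg.Agent.FastGrp

-- part: tables
section
set_option autoImplicit false
set_option maxRecDepth 100000
set_option exponentiation.threshold 3000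

namespace Cfsg.Agent.H351.SpSix.RankE8

/-! ### a fast form of the commutator terms (kernel checks) -/

section

open Cfsg.Lie

private noncomputable def fsA (a b : Bool) : Bool := Bool.rec false b a

private theorem fsA_true {a b : Bool} (h : fsA a b = true) : a = true ∧ b = true := by
  cases a
  · exact absurd h Bool.false_ne_true
  · exact ⟨rfl, h⟩

private def fsI (v : ℕ) : ℤ := cond (Nat.beq v 0) 0 (Int.subNatNat v 8)

private def fsZ (W T i r : ℕ) : ℤ :=
  fsI (Nat.mod (Nat.shiftRight (Nat.mod (Nat.shiftRight T (Nat.mul W i)) (Nat.pow 2 W)) (Nat.mul 4 r)) 16)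

private noncomputable def fsX (l : List ℤ) : ℕ → Bool :=
  List.rec (fun c => Nat.beq c 0) (fun x _ ih c => fsA (decide (x = fsI (Nat.mod c 16))) (ih (Nat.shiftRight c 4))) l

private noncomputable def fsY (W : ℕ) (L : List (Array ℤ)) : ℕ → Bool :=
  List.rec (fun T => Nat.beq T 0)
    (fun x _ ih T => fsA (fsX x.toList (Nat.mod T (Nat.pow 2 W))) (ih (Nat.shiftRight T W))) L

private theorem fsX_spec : ∀ (l : List ℤ) (c : ℕ), fsX l c = true → ∀ r, l.getD r 0 = fsI (c >>> (4 * r) % 16)
  | [], c, h, r => by
    rw [Nat.eq_of_beq_eq_true h, Nat.zero_shiftRight]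
    rfl
  | x :: l, c, h, 0 => of_decide_eq_true (fsA_true h).1
  | x :: l, c, h, r + 1 => by
    rw [show 4 * (r + 1) = 4 + 4 * r by ring, Nat.shiftRight_add]
    exact fsX_spec l _ (fsA_true h).2 r

private theorem fsY_spec (W : ℕ) : ∀ (L : List (Array ℤ)) (T : ℕ), fsY W L T = true → ∀ i r,
    (L.getD i #[]).toList.getD r 0 = fsZ W T i r
  | [], T, h, i, r => by
    rw [Nat.eq_of_beq_eq_true h, show fsZ W 0 i r = fsI ((0 >>> (W * i) % Nat.pow 2 W) >>> (4 * r) % 16) from rfl,
      Nat.zero_shiftRight, Nat.zero_mod, Nat.zero_shiftRight]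
    rfl
  | x :: L, T, h, 0, r => fsX_spec _ _ (fsA_true h).1 r
  | x :: L, T, h, i + 1, r => by
    rw [show fsZ W T (i + 1) r = fsI ((T >>> (W * (i + 1)) % Nat.pow 2 W) >>> (4 * r) % 16) from rfl,
      show W * (i + 1) = W + W * i by ring, Nat.shiftRight_add]
    exact fsY_spec W L _ (fsA_true h).2 i r

private theorem fs_z {A : Array (Array ℤ)} {W T : ℕ} (h : fsY W A.toList T = true) (i r : ℕ) :
    (A.getD i #[]).getD r 0 = fsZ W T i r := by
  rw [← fsY_spec W _ _ h i r, List.getD_eq_getElem?_getD, List.getD_eq_getElem?_getD, Array.getElem?_toList,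
    Array.getElem?_toList, ← Array.getD_eq_getD_getElem?, ← Array.getD_eq_getD_getElem?]

private def fsA8 : ℕ := 0x97888888888897888889788897889789797888978979788979789788897978978897888978888889797897889788897888897888897888978897897a6978978897888978888978888978889788978979788888897888978897897978889789797889797897888979789788978889788888978888888888978978888888897888889788897889789788978978978897978897897897889789788978889788889788978978897888978888978888978889788979a796797889788897888897888897888978897897889788889788897889789788978978978897978897897897889789788978889788888978888888897888978888889788888978889788978889977897888997788997788897899778889788978889788889977888978897888978888978888978889799a77889967797888978888978888978889788978889977888897888978897888997789788899778899778889789977888978897888978888897888888978888897888897888889788897888899977788889997778888889997778888999777888897888978888899977788889788897888897888897999a777888888999677797888897888897888978888999777888889788897888899977788889997778888889997778888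9997778888978889788888978888978888888978897888889788888999977778888888888999999777777888888888899997777888889788888889999777788888978888979999a777788888888888899996777797888897888889999777788888889788888999977778888888888999999777777888888888899997777888889788888978897888888888979788888889999977777888888888888888888889999999999777777777788888888889788888888889999977777899999a77777888888888888888888889999967777789999977777888888888897888888888899999999997777777777888888888888888888889999977777888888897978888888888997788888978888888888999999999977777777778888888888888888888899999777778888888888889999999999a77777877777888888888888888888889999989999967777777777888888888888999997777788888888888888888888999999999977777777778888888888978888899778888888888898999999777777788888888888888888888888888888888888999999999999999999999a777777777777777888888777777888888888888888888888888888888999999888888999999999999999677777777777777777777788888888888888888888888888888888888999999977777787888888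

private theorem fs_a8 : fsY 960 chevE8.cartanSR.toList fsA8 = true := by decide +kernel

private def fsB8 : ℕ := 0xabcdecba9bcdecba9acdecba9abdecba9abcecba9abcdcba9abcdbba9abcdcaa9abcdbaa9abccbaa9abbcbaa9aabcbaa99abcbaa89abcbaa9abcdbb99abcdba99abccba99abbcba99aabcba999abcba989abcba99abccaa99abbcaa99aabcaa999abcaa989abcaa99abbbaa99aabbaa999abbaa989abbaa99aaabaa999aabaa989aabaa9999abaa9899abaa9889abaa99abbba999aabba9999abba9989abba999aaaba9999aaba9989aaba99999aba99899aba99889aba999aaaaa9999aaaa9989aaaa99999aaa99899aaa99889aaa999999aa998999aa998899aa998889aa999aaaa99999aaa99989aaa999999aa999899aa999889aa9999999a9998999a9998899a9998889a9999999999989999999889999998889999988889999999999898999998988999989888999898888998988888989888888899aaaa99899aaa99889aaa998999aa998899aa998889aa9989999a9988999a9988899a9988889a9989999999889999998889999988889999888889998999998988999989888999898888998988888989888888898999999888999998888999988888999888888998888888988999998888999988888999888888998888888988899998888899988888899888888898888999888888998888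888988888998888888988888898888888788888888788888877888888887888888778888877788888888788888877888887778888777788888888788888877888887778888777788877777888888887888888778888877788887777888777778877777788888888788888787888877878887778788777787877777878888877788887777888777778877777787777777888876778887767788777677877776778887667788776677877766778876667787766677876666778888888878888878788887787888777878877778787777787777777878888777788877777887777778777777777777777888767778877677787776777777767778876677787766777777667778766677777666777766667778887667788776677877766777777667788766677877666777776667787666677776666777666667788765677877656777776567787665677776656777666567787655677776556777665567776555677887656678776566777765667876656677766566776665667876556677765566776655667765556678765466777654667766546677655466776544667876545677765456776654567765545677654456776543567765435578765456677654566766545667655456676544566765435667654346676543556765434567654245676532456764324567543245665432456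

private theorem fs_b8 : fsY 32 chevE8.coroot.toList fsB8 = true := by decide +kernel

end

end Cfsg.Agent.H351.SpSix.RankE8
end



/-!
# The ranks of `t - 1` on the Lie algebra for the involutions `t` of `E8(q)`, `q` odd (helper351)

Involutions are toral (helper557: `toral_E8`); a toral involution acts on the root vectors by a nonzero sign character
of the root lattice, which takes the value `-1` on `112` or `128` roots.
-/

set_option autoImplicit false

namespace Cfsg.Agent.H351.SpSix.RankE8

open Cfsg Cfsg.Lie Matrix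
open Cfsg.Agent.ChevalleyStructure Cfsg.Agent.ChevalleyStructure.HDiag Cfsg.Agent.ChevalleyStructure.Columns

/-- the roots with odd coefficient at the `j`-th simple root -/
def Ms : List ℕ := [107839786668602559172822053798754911021733838661528612749448004485120,
  1753097492003848511995418724622658205829124388897766921341740243671335039,
  20704396542038367424733491914620092534419798955723322403167678861672256,
  51844003768978489081421662274780806913344498170800302062942232843960800,
  1658049777132531129987109508961341997330299938279832027942784460591610895,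
  220094909834748922245869575695743920516767951287799003329953312530483192,
  1325461430136442926808816863125755873400476431580858341075940120903299075,
  883314821845904021463758718625403431782944244673388587339954784337649662]

/-- the roots on which the character `n` is `-1`, first `k` simple roots only -/
def Xr (n : ℕ) : ℕ → ℕ
  | 0 => 0
  | k + 1 => Nat.xor (Xr n k) (if n.testBit k then Ms.getD k 0 else 0)

/-- the number of the bits below `N` -/
def cnt (X : ℕ) : ℕ → ℕ
  | 0 => 0
  | k + 1 => cnt X k + (X.testBit k).toNat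

theorem cnt_eq (X N : ℕ) : cnt X N = ((Finset.range N).filter fun s => X.testBit s = true).card := by
  induction N with
  | zero => rfl
  | succ N ih =>
    rw [cnt, ih, Finset.range_add_one, Finset.filter_insert]
    by_cases h : X.testBit N = true
    · rw [if_pos h, Finset.card_insert_of_notMem (by simp), h]; rfl
    · rw [if_neg h, Bool.eq_false_iff.2 h]; rfl

private theorem car_eq : car chevE8 = fsZ 960 fsA8 := funext fun i => funext fun r => (car_def _ i r).trans (fs_z fs_a8 i r)

private theorem cor_eq : cor chevE8 = fsZ 32 fsB8 := funext fun i => funext fun r => (cor_def _ i r).trans (fs_z fs_b8 i r)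

private noncomputable def _root_.Cfsg.Agent.LsF.f0058b4_0 : {f // @Cfsg.Agent.H351.SpSix.RankE8.fsI = f} := ⟨_, by first | (delta Cfsg.Agent.H351.SpSix.RankE8.fsI; rewrite [Cfsg.Agent.LsF.cond_eq]; exact rfl) | exact rfl⟩
private noncomputable def _root_.Cfsg.Agent.LsF.f0058b4_1 : {f // @Cfsg.Agent.H351.SpSix.RankE8.fsZ = f} := ⟨_, by first | (delta Cfsg.Agent.H351.SpSix.RankE8.fsZ; rewrite [Cfsg.Agent.LsF.f0058b4_0.2]; exact rfl) | exact rfl⟩
theorem tab_bits : ∀ j < 8, ∀ s < 240, (Ms.getD j 0).testBit s = decide (cor chevE8 s j % 2 ≠ 0) := by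
  rewrite [cor_eq]
  (refine of_decide_eq_true ?_; (try (rewrite [Cfsg.Agent.LsF.f0058b4_1.2, Cfsg.Agent.LsF.imod_pat, Cfsg.Agent.LsF.testBit_eq, Cfsg.Agent.LsF.getD_eq, Cfsg.Agent.LsF.instIDecEq_eq, Cfsg.Agent.LsF.dNot_eq, Cfsg.Agent.LsF.dBoolEq_eq, Cfsg.Agent.LsF.dBallLT_eq, Cfsg.Agent.LsF.decide_eq])); decide +kernel)

private noncomputable def _root_.Cfsg.Agent.LsF.f0058b4_2 : {f // @Cfsg.Lie.ChevalleyDatum.simple = f} := ⟨_, by first | (delta Cfsg.Lie.ChevalleyDatum.simple; rewrite [Cfsg.Agent.LsF.agetD_eq]; exact rfl) | exact rfl⟩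
theorem tab_lin : ∀ i < 8, ∀ s < 240, car chevE8 i s =
    ∑ j ∈ Finset.range 8, cor chevE8 s j * car chevE8 i (chevE8.simple j) := by
  have h : ∀ i < 8, ∀ s < 240, car chevE8 i s = cor chevE8 s 0 * car chevE8 i (chevE8.simple 0) +
      cor chevE8 s 1 * car chevE8 i (chevE8.simple 1) + cor chevE8 s 2 * car chevE8 i (chevE8.simple 2) +
      cor chevE8 s 3 * car chevE8 i (chevE8.simple 3) + cor chevE8 s 4 * car chevE8 i (chevE8.simple 4) +
      cor chevE8 s 5 * car chevE8 i (chevE8.simple 5) + cor chevE8 s 6 * car chevE8 i (chevE8.simple 6) +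
      cor chevE8 s 7 * car chevE8 i (chevE8.simple 7) := by
    rewrite [cor_eq, car_eq]
    (refine of_decide_eq_true ?_; (try (rewrite [Cfsg.Agent.LsF.f0058b4_1.2, Cfsg.Agent.LsF.f0058b4_2.2, Cfsg.Agent.LsF.iadd_pat, Cfsg.Agent.LsF.imul_pat, Cfsg.Agent.LsF.instIDecEq_eq, Cfsg.Agent.LsF.dBallLT_eq, Cfsg.Agent.LsF.decide_eq])); decide +kernel)
  intro i hi s hs
  simp only [Finset.sum_range_succ, Finset.sum_range_zero, zero_add]
  exact h i hi s hs

theorem cartan_eq (D : ChevalleyDatum) (i s : ℕ) : D.cartan i s = car D i s := rfl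

theorem tab_simple : ∀ j < 8, chevE8.simple j < 240 := by decide +kernel

private noncomputable def cntF (N X : ℕ) : ℕ := Nat.rec 0 (fun k r => Nat.add r (Nat.land (Nat.shiftRight X k) 1)) N

private theorem cntF_eq (X N : ℕ) : cnt X N = cntF N X := by
  induction N with
  | zero => rfl
  | succ N ih =>
    show cnt X N + (X.testBit N).toNat = cntF N X + (X >>> N &&& 1)
    rw [ih, Nat.toNat_testBit, Nat.and_one_is_mod, Nat.shiftRight_eq_div_pow]

private noncomputable def _root_.Cfsg.Agent.LsF.f0058b4_3 : {f // @Cfsg.Agent.H351.SpSix.RankE8.Xr = f} := ⟨_, by first | (delta Cfsg.Agent.H351.SpSix.RankE8.Xr Nat.brecOn.go Nat.brecOn Cfsg.Agent.H351.SpSix.RankE8.Xr._f; rewrite [Cfsg.Agent.LsF.testBit_eq, Cfsg.Agent.LsF.getD_eq, Cfsg.Agent.LsF.dBoolEq_eq, Cfsg.Agent.LsF.ite_eq]; (try delta Cfsg.Agent.H351.SpSix.RankE8.Xr.match_1); (try delta Nat.casesOn); first | dsimp -zeta only | exact rfl) | exact rfl⟩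
theorem tab_cnt : ∀ n < 256, n ≠ 0 → cnt (Xr n 8) 240 = 112 ∨ cnt (Xr n 8) 240 = 128 := by
  have h : ∀ n < 256, n ≠ 0 → (Nat.rec 0 (fun X _ => cntF 240 X) (Nat.succ (Xr n 8)) : ℕ) ∈ [112, 128] := by (refine of_decide_eq_true ?_; (try (rewrite [Cfsg.Agent.LsF.f0058b4_3.2, Cfsg.Agent.LsF.dNot_eq, Cfsg.Agent.LsF.dMem_eq, Cfsg.Agent.LsF.dBallLT_eq, Cfsg.Agent.LsF.decide_eq])); decide +kernel)
  intro n hn h0
  rw [cntF_eq]
  exact (List.mem_cons.1 (h n hn h0)).imp id List.mem_singleton.1

/-! ### the diagonal subgroup -/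

universe u

variable {F : Type u} [Field F]

/-- the elements of the diagonal subgroup -/
theorem exists_dmat' (D : ChevalleyDatum)
    (hD : D ∈ [chevG2, chevB2, chevD4, chevF4, chevE6, chevE7, chevE8])
    (g : GL D.Idx F) (hg : g ∈ D.diagonalSubgroup F) :
    ∃ c : ℕ → Fˣ, (g : Matrix D.Idx D.Idx F) =
      dmat D F (fun s => ((∏ i ∈ Finset.range D.rank, c i ^ D.cartan i s : Fˣ) : F)) := by
  obtain ⟨c, hc, hw⟩ := Cfsg.Agent.S1034.result D hD g hg
  classical
  let c' : ℕ → Fˣ := fun i => if h : c i = 0 then 1 else Units.mk0 (c i) h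
  have hc' : ∀ i < D.rank, (c' i : F) = c i := by
    intro i hi
    have h : ¬ c i = 0 := hc i hi
    show ((if h : c i = 0 then 1 else Units.mk0 (c i) h : Fˣ) : F) = c i
    rw [dif_neg h]; rfl
  refine ⟨c', ?_⟩
  have key : ∀ n ≤ D.rank, 
      D.wordMat F ((List.range n).flatMap fun i => D.hWord (D.simple i) (c i)) =
        dmat D F (fun s => ((∏ i ∈ Finset.range n, c' i ^ D.cartan i s : Fˣ) : F)) := by
    intro n
    induction n with
    | zero =>
      intro _
      simp only [Finset.range_zero, Finset.prod_empty, Units.val_one]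
      rw [dmat_one]
      rfl
    | succ n ih =>
      intro hn
      rw [List.range_succ, List.flatMap_append, wordMat_append, ih (by omega), List.flatMap_singleton]
      have h2 : D.wordMat F (D.hWord (D.simple n) (c n)) = dmat D F (fun s => c n ^ (D.cartan n s)) :=
        Cfsg.Agent.S1033.result D hD n (by omega) (c n) (hc n (by omega))
      rw [h2, dmat_mul]
      congr 1
      funext s
      rw [Finset.prod_range_succ, Units.val_mul, Units.val_zpow_eq_zpow_val, hc' n (by omega)]
  rw [hw, key D.rank le_rfl]

theorem prod_zpow_sum {G ι : Type*} [CommGroup G] (a : G) (S : Finset ι) (f : ι → ℤ) :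
    ∏ i ∈ S, a ^ f i = a ^ ∑ i ∈ S, f i := by
  classical
  induction S using Finset.induction_on with
  | empty => simp
  | insert i S hi ih => rw [Finset.prod_insert hi, Finset.sum_insert hi, ih, _root_.zpow_add]

/-- the character of a root from the characters of the simple roots -/
theorem char_eq {D : ChevalleyDatum} (c : ℕ → Fˣ) {s : ℕ}
    (hlin : ∀ i < 8, car D i s = ∑ j ∈ Finset.range 8, cor D s j * car D i (D.simple j)) :
    ∏ i ∈ Finset.range 8, c i ^ D.cartan i s =
      ∏ j ∈ Finset.range 8, (∏ i ∈ Finset.range 8, c i ^ D.cartan i (D.simple j)) ^ cor D s j := by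
  have h1 : ∀ j, (∏ i ∈ Finset.range 8, c i ^ D.cartan i (D.simple j)) ^ cor D s j =
      ∏ i ∈ Finset.range 8, c i ^ (cor D s j * car D i (D.simple j)) := by
    intro j
    rw [← Finset.prod_zpow]
    refine Finset.prod_congr rfl fun i _ => ?_
    rw [← _root_.zpow_mul, mul_comm, cartan_eq]
  simp only [h1]
  rw [Finset.prod_comm]
  refine Finset.prod_congr rfl fun i hi => ?_
  rw [prod_zpow_sum, cartan_eq, hlin i (Finset.mem_range.1 hi)]

/-- the sign of a root -/
theorem sign_eq (n : ℕ) {s : ℕ} (hs : s < 240) : ∀ k ≤ 8,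
    ∏ j ∈ Finset.range k, (if n.testBit j then (-1 : Fˣ) else 1) ^ cor chevE8 s j =
      if (Xr n k).testBit s then -1 else 1 := by
  intro k
  induction k with
  | zero => intro _; simp [Xr]
  | succ k ih =>
    intro hk
    rw [Finset.prod_range_succ, ih (by omega)]
    have hX : (Xr n (k + 1)).testBit s = ((Xr n k).testBit s ^^ (n.testBit k && decide (cor chevE8 s k % 2 ≠ 0))) := by
      rw [← tab_bits k (by omega) s hs]
      show (Xr n k ^^^ (if n.testBit k then Ms.getD k 0 else 0)).testBit s = _
      rw [Nat.testBit_xor]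
      congr 1
      cases n.testBit k
      · simp
      · simp
    rw [hX]
    have h3 : (if n.testBit k then (-1 : Fˣ) else 1) ^ cor chevE8 s k =
        if (n.testBit k && decide (cor chevE8 s k % 2 ≠ 0)) then -1 else 1 := by
      cases n.testBit k
      · simp
      · simp only [Bool.true_and, if_true]
        rcases Int.emod_two_eq_zero_or_one (cor chevE8 s k) with h | h
        · rw [(Int.even_iff.2 h).neg_one_zpow]; simp [h]
        · rw [(Int.odd_iff.2 h).neg_one_zpow]; simp [h]
    rw [h3]
    cases (Xr n k).testBit s <;> cases (n.testBit k && decide (cor chevE8 s k % 2 ≠ 0)) <;> simp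

theorem exists_bits (b : ℕ → Fˣ) (hb : ∀ j < 8, b j * b j = 1) : ∃ n < 256, ∀ j < 8, b j = if n.testBit j then -1 else 1 := by
  classical
  refine ⟨Nat.ofBits fun k : Fin 8 => decide (b k = -1), Nat.ofBits_lt_two_pow _, fun j hj => ?_⟩
  rw [Nat.testBit_ofBits_lt _ _ hj]
  have h2 : (b j : F) * b j = 1 := by
    have := congrArg (Units.val) (hb j hj)
    rwa [Units.val_mul, Units.val_one] at this
  rcases mul_self_eq_one_iff.1 h2 with h3 | h3
  · have h4 : b j = 1 := Units.ext h3
    by_cases h5 : b j = -1
    · simp [h5]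
    · rw [h4] at h5 ⊢
      simp [h5]
  · have h4 : b j = -1 := Units.ext (by rw [h3, Units.val_neg, Units.val_one])
    simp [h4]

/-- **the rank of `t - 1` for a toral involution** -/
theorem rank_diag (h2 : (2 : F) ≠ 0) {t : GL chevE8.Idx F} (ht : t ∈ chevE8.diagonalSubgroup F) (htt : t * t = 1)
    (h1 : t ≠ 1) : ((t : Matrix chevE8.Idx chevE8.Idx F) - 1).rank = 112 ∨
      ((t : Matrix chevE8.Idx chevE8.Idx F) - 1).rank = 128 := by
  classical
  obtain ⟨c, hc⟩ := exists_dmat' chevE8 (by simp) t ht
  let χ : ℕ → Fˣ := fun s => ∏ i ∈ Finset.range 8, c i ^ chevE8.cartan i s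
  have hc' : (t : Matrix chevE8.Idx chevE8.Idx F) = dmat chevE8 F (fun s => (χ s.val : F)) := hc
  have hsq : ∀ s < 240, χ s * χ s = 1 := by
    intro s hs
    have h3 := congrArg (fun g : GL chevE8.Idx F => (g : Matrix chevE8.Idx chevE8.Idx F)) htt
    simp only [Units.val_mul, Units.val_one, hc'] at h3
    rw [dmat_mul] at h3
    have h4 := congrFun (congrFun h3 (Sum.inr ⟨s, hs⟩)) (Sum.inr ⟨s, hs⟩)
    rw [dmat_def, Matrix.diagonal_apply_eq, Matrix.one_apply_eq] at h4
    apply Units.ext
    rw [Units.val_mul, Units.val_one]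
    exact h4
  obtain ⟨n, hn, hbits⟩ := exists_bits (fun j => χ (chevE8.simple j)) (fun j hj => hsq _ (tab_simple j hj))
  have hχ : ∀ s < 240, χ s = if (Xr n 8).testBit s then -1 else 1 := by
    intro s hs
    rw [← sign_eq n hs 8 le_rfl]
    show ∏ i ∈ Finset.range 8, c i ^ chevE8.cartan i s = _
    rw [char_eq c (fun i hi => tab_lin i hi s hs)]
    refine Finset.prod_congr rfl fun j hj => ?_
    have := hbits j (Finset.mem_range.1 hj)
    rw [← this]
  have hn0 : n ≠ 0 := by
    rintro rfl
    apply h1
    apply Units.ext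
    rw [hc', Units.val_one, ← dmat_one]
    congr 1
    funext s
    rw [hχ s.val s.isLt]
    have : Xr 0 8 = 0 := by decide +kernel
    rw [this]
    simp
  have hneg : (-1 : F) ≠ 1 := by
    intro h
    apply h2
    have h3 : (2 : F) = 1 - (-1) := by ring
    rw [h3, h, sub_self]
  have hmat : (t : Matrix chevE8.Idx chevE8.Idx F) - 1 =
      Matrix.diagonal (Sum.elim (fun _ => (0 : F)) (fun s : Fin chevE8.nroots => if (Xr n 8).testBit s.val then -2 else 0)) := by
    rw [hc', dmat_def, ← Matrix.diagonal_one, Matrix.diagonal_sub]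
    congr 1
    funext i
    rcases i with i | s
    · simp
    · show (χ s.val : F) - 1 = _
      rw [hχ s.val s.isLt]
      show _ = if (Xr n 8).testBit s.val then (-2 : F) else 0
      cases (Xr n 8).testBit s.val
      · simp
      · simp only [if_true, Units.val_neg, Units.val_one]; ring
  have hcard : ((t : Matrix chevE8.Idx chevE8.Idx F) - 1).rank = cnt (Xr n 8) 240 := by
    rw [hmat, Matrix.rank_diagonal, cnt_eq, Fintype.card_subtype]
    symm
    refine Finset.card_bij (fun s hs => Sum.inr ⟨s, Finset.mem_range.1 (Finset.mem_filter.1 hs).1⟩) ?_ ?_ ?_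
    · intro s hs
      rw [Finset.mem_filter]
      refine ⟨Finset.mem_univ _, ?_⟩
      show (if (Xr n 8).testBit s then (-2 : F) else 0) ≠ 0
      rw [if_pos (Finset.mem_filter.1 hs).2]
      exact neg_ne_zero.2 h2
    · intro s hs s' hs' h
      exact congrArg Fin.val (Sum.inr.inj h)
    · intro i hi
      rw [Finset.mem_filter] at hi
      rcases i with i | s
      · exact absurd rfl hi.2
      · have h3 : (if (Xr n 8).testBit s.val then (-2 : F) else 0) ≠ 0 := hi.2
        refine ⟨s.val, Finset.mem_filter.2 ⟨Finset.mem_range.2 s.isLt, ?_⟩, rfl⟩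
        by_contra h4
        exact h3 (if_neg h4)
  rw [hcard]
  exact tab_cnt n hn hn0

/-- **the rank of `t - 1` for an involution of `E8(q)`, `q` odd** -/
theorem rank_inv [Fintype F] (ho : Odd (Fintype.card F)) (h2 : (2 : F) ≠ 0) {t : ↥(chevE8.group F)} (ht : t * t = 1)
    (h1 : t ≠ 1) : (((t : GL chevE8.Idx F) : Matrix chevE8.Idx chevE8.Idx F) - 1).rank = 112 ∨
      (((t : GL chevE8.Idx F) : Matrix chevE8.Idx chevE8.Idx F) - 1).rank = 128 := by
  obtain ⟨g, hg⟩ := Cfsg.Agent.H557.ToralTypes.toral_E8 ho ht
  have hs : ((g * t * g⁻¹ : ↥(chevE8.group F)) : GL chevE8.Idx F) ∈ chevE8.diagonalSubgroup F :=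
    Subgroup.mem_subgroupOf.1 hg
  have hss : (g * t * g⁻¹) * (g * t * g⁻¹) = 1 := by
    rw [show (g * t * g⁻¹) * (g * t * g⁻¹) = g * (t * t) * g⁻¹ by group, ht, mul_one, mul_inv_cancel]
  have hne : ((g * t * g⁻¹ : ↥(chevE8.group F)) : GL chevE8.Idx F) ≠ 1 := by
    intro h
    apply h1
    have h3 : g * t * g⁻¹ = 1 := Subtype.ext h
    have h4 : t = g⁻¹ * (g * t * g⁻¹) * g := by group
    rw [h4, h3, mul_one, inv_mul_cancel]
  have h3 := rank_diag h2 hs (congrArg Subtype.val hss) hne
  have h4 : (((g * t * g⁻¹ : ↥(chevE8.group F)) : GL chevE8.Idx F) : Matrix chevE8.Idx chevE8.Idx F) - 1 =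
      ((g : GL chevE8.Idx F) : Matrix chevE8.Idx chevE8.Idx F) *
        ((((t : GL chevE8.Idx F) : Matrix chevE8.Idx chevE8.Idx F) - 1) *
          (((g : GL chevE8.Idx F)⁻¹ : GL chevE8.Idx F) : Matrix chevE8.Idx chevE8.Idx F)) := by
    rw [Matrix.sub_mul, Matrix.mul_sub, one_mul, ← Units.val_mul (g : GL chevE8.Idx F), mul_inv_cancel, Units.val_one,
      ← Units.val_mul, ← Units.val_mul, ← mul_assoc]
    rfl
  have hd : ∀ x : GL chevE8.Idx F, IsUnit (x : Matrix chevE8.Idx chevE8.Idx F).det := fun x =>
    (Matrix.isUnit_iff_isUnit_det _).1 x.isUnit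
  have h5 : ((((g * t * g⁻¹ : ↥(chevE8.group F)) : GL chevE8.Idx F) : Matrix chevE8.Idx chevE8.Idx F) - 1).rank =
      (((t : GL chevE8.Idx F) : Matrix chevE8.Idx chevE8.Idx F) - 1).rank := by
    rw [h4, Matrix.rank_mul_eq_right_of_isUnit_det _ _ (hd _), Matrix.rank_mul_eq_left_of_isUnit_det _ _ (hd _)]
  rwa [h5] at h3

end Cfsg.Agent.H351.SpSix.RankE8

private theorem dce_eb4d7f8a142d : _root_.True := by
  try have : _root_.True := by simp only [_root_.Cfsg.Agent.H351.SpSix.RankE8.Xr.eq_2]
  try have : _root_.True := by simp only [_root_.Cfsg.Agent.H351.SpSix.RankE8.cnt.eq_2]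
  try have : _root_.True := by simp only [_root_.Cfsg.Agent.H351.SpSix.RankE8.cnt.eq_def]
  try have : _root_.True := by simp only [_root_.Cfsg.Agent.H351.SpSix.RankE8.cnt.eq_1]
  try have : _root_.True := by simp only [_root_.Cfsg.Agent.H351.SpSix.RankE8.Xr.eq_def]
  try have : _root_.True := by simp only [_root_.Cfsg.Agent.H351.SpSix.RankE8.Xr.eq_1]
  exact _root_.True.intro
end

-- part: H351/SpSix/IdealE
section
set_option linter.all false
open scoped Cfsg.Agent.FastGrp

/-!
# Ideals of the Lie algebra of a simply laced datum in odd characteristic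

`x_r(t) = 1 + t ad e_r + t² / 2 (ad e_r)²`, so every ideal `I` of the Lie algebra is invariant under the Chevalley
group; if some element `g ≠ 1` of the Chevalley group (simple) acts trivially on the quotient then `I` is everything.
(helper351)
-/

set_option autoImplicit false

namespace Cfsg.Agent.H351.SpSix.IdealE

open Cfsg Cfsg.Lie Matrix
open Cfsg.Agent.ChevalleyStructure.LieAbs Cfsg.Agent.ChevalleyStructure.Ring Cfsg.Agent.ChevalleyStructure.JacMain
  Cfsg.Agent.ChevalleyStructure.LieAut Cfsg.Agent.ChevalleyStructure.JacAll Cfsg.Agent.ChevalleyStructure.Columns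
  Cfsg.Agent.ChevalleyStructure.Additive

universe u

/-- the table facts: simply laced, simple roots -/
structure Lac (D : ChevalleyDatum) : Prop where
  mem : D ∈ [chevD4, chevF4, chevE6, chevE7, chevE8]
  le : ∀ r < D.nroots, ∀ e ∈ row D r, e.2.toList.length ≤ 1
  sim : ∀ i < D.rank, D.simple i < D.nroots ∧ ∀ j < D.rank, cor D (D.simple i) j = if j = i then 1 else 0

theorem lac_E6 : Lac chevE6 := ⟨by simp, by decide +kernel, by decide +kernel⟩

variable {D : ChevalleyDatum} (L : Lac D)

include L in
theorem Lac.inList : D ∈ [chevG2, chevB2, chevD4, chevF4, chevE6, chevE7, chevE8] :=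
  List.mem_cons_of_mem _ (List.mem_cons_of_mem _ L.mem)

include L in
theorem coefE_three {r : ℕ} (hr : r < D.nroots) {k : ℕ} (hk : 3 ≤ k) : coefE D r k = 0 := by
  have h0 : ∀ s u : ℕ, ((D.chainCoeff r s u).map fun km : ℕ × ℤ => if km.1 = k then km.2 else 0).sum = 0 := by
    intro s u
    apply List.sum_eq_zero
    intro x hx
    obtain ⟨km, hkm, rfl⟩ := List.mem_map.1 hx
    rw [if_neg]
    simp only [ChevalleyDatum.chainCoeff, List.mem_flatMap, List.mem_map] at hkm
    obtain ⟨e, he, q, hq, rfl⟩ := hkm
    have h1 := L.le r hr e (List.mem_filter.1 he).1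
    have h2 := List.snd_lt_of_mem_zipIdx (List.mem_filter.1 hq).1
    simp only at h2 ⊢
    omega
  ext row col
  rw [coefE_entry D r k hr, Matrix.zero_apply]
  rcases row with i | u <;> rcases col with j | s
  · simp only
    rw [if_neg (by omega)]
  · simp only
    split_ifs <;> first | rfl | omega
  · simp only
    rw [if_neg (by omega)]
  · simp only
    rw [h0]
    split_ifs <;> first | rfl | omega

variable {F : Type u} [Field F]

include L in
/-- **ideals are invariant under the root elements** -/
theorem x_mem (h2 : (2 : F) ≠ 0) {I : Submodule F (D.Idx → F)} (hI : ∀ x, ∀ w ∈ I, adv (adR D F) x *ᵥ w ∈ I)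
    (r : ℕ) (t : F) {w : D.Idx → F} (hw : w ∈ I) : D.x F r t *ᵥ w ∈ I := by
  by_cases hr : r < D.nroots
  · obtain ⟨m, hm⟩ := exists_degree_bound D r
    have hadd : ∀ (K : Type) [Field K] [CharZero K] (t u : K), xR D K r t * xR D K r u = xR D K r (t + u) :=
      fun K _ _ t u => xR_add_field D L.inList r K t u
    rw [x_eq_xR, xR_eq_sum D r t m hm, Matrix.sum_mulVec]
    have h1 : ∀ w ∈ I, adK D F r *ᵥ w ∈ I := by
      intro w hw
      have h := hI (Pi.single (Sum.inr ⟨r, hr⟩) 1) w hw
      rw [adv_single_one] at h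
      exact h
    refine Submodule.sum_mem _ fun k _ => ?_
    rw [Matrix.smul_mulVec]
    refine Submodule.smul_mem _ _ ?_
    rcases Nat.lt_or_ge k 3 with hk | hk
    · have hk' : k = 0 ∨ k = 1 ∨ k = 2 := by omega
      rcases hk' with rfl | rfl | rfl
      · rw [coefE_zero]
        have : (1 : Matrix D.Idx D.Idx ℤ).map (Int.castRingHom F) = 1 := Matrix.map_one _ (map_zero _) (map_one _)
        rw [this, Matrix.one_mulVec]
        exact hw
      · exact h1 w hw
      · have h3 := adK_pow (K := F) D r hadd 2
        have h4 : (2 : F) • ((coefE D r 2).map (Int.castRingHom F) *ᵥ w) ∈ I := by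
          have h5 : (2 : F) • ((coefE D r 2).map (Int.castRingHom F) *ᵥ w) = adK D F r *ᵥ (adK D F r *ᵥ w) := by
            rw [Matrix.mulVec_mulVec, ← pow_two, h3]
            rw [show Nat.factorial 2 = 2 from rfl, two_nsmul, Matrix.add_mulVec, two_smul]
          rw [h5]
          exact h1 _ (h1 _ hw)
        exact (Submodule.smul_mem_iff _ h2).1 h4
    · rw [coefE_three L hr hk]
      have : (0 : Matrix D.Idx D.Idx ℤ).map (Int.castRingHom F) = 0 := Matrix.map_zero _ (map_zero _)
      rw [this, Matrix.zero_mulVec]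
      exact Submodule.zero_mem _
  · have : D.x F r t = 1 := by unfold ChevalleyDatum.x; rw [dif_neg hr]
    rw [this, Matrix.one_mulVec]; exact hw

include L in
/-- **ideals are invariant under the Chevalley group** -/
theorem group_mem (h2 : (2 : F) ≠ 0) {I : Submodule F (D.Idx → F)} (hI : ∀ x, ∀ w ∈ I, adv (adR D F) x *ᵥ w ∈ I)
    {g : GL D.Idx F} (hg : g ∈ D.group F) {w : D.Idx → F} (hw : w ∈ I) :
    (g : Matrix D.Idx D.Idx F) *ᵥ w ∈ I := by
  unfold ChevalleyDatum.group at hg
  induction hg using Subgroup.closure_induction generalizing w with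
  | mem g hg =>
    obtain ⟨r, t, h⟩ := hg
    have h3 : D.x F r.val t = D.xMat F r t := by
      unfold ChevalleyDatum.x
      rw [dif_pos r.isLt]
    rw [h, ← h3]
    exact x_mem L h2 hI r.val t hw
  | one => rw [Units.val_one, Matrix.one_mulVec]; exact hw
  | mul g g' _ _ ih ih' =>
    rw [Units.val_mul, ← Matrix.mulVec_mulVec]
    exact ih (ih' hw)
  | inv g _ ih =>
    let f : I →ₗ[F] I := (Matrix.mulVecLin (g : Matrix D.Idx D.Idx F)).restrict (fun w hw => ih hw)
    have hf : Function.Injective f := by
      intro a b hab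
      apply Subtype.ext
      have h1 : (g : Matrix D.Idx D.Idx F) *ᵥ a.1 = (g : Matrix D.Idx D.Idx F) *ᵥ b.1 := congrArg Subtype.val hab
      have h3 := congrArg (fun v => ((g⁻¹ : GL D.Idx F) : Matrix D.Idx D.Idx F) *ᵥ v) h1
      simp only [Matrix.mulVec_mulVec, ← Units.val_mul, inv_mul_cancel, Units.val_one, Matrix.one_mulVec] at h3
      exact h3
    obtain ⟨⟨w', hw'⟩, h3⟩ := (LinearMap.injective_iff_surjective.1 hf) ⟨w, hw⟩
    have h4 : (g : Matrix D.Idx D.Idx F) *ᵥ w' = w := congrArg Subtype.val h3
    have h5 : ((g⁻¹ : GL D.Idx F) : Matrix D.Idx D.Idx F) *ᵥ w = w' := by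
      rw [← h4, Matrix.mulVec_mulVec, ← Units.val_mul, inv_mul_cancel, Units.val_one, Matrix.one_mulVec]
    rw [h5]; exact hw'

/-- the elements acting trivially on the quotient by an invariant subspace -/
def kerQ (I : Submodule F (D.Idx → F))
    (hI : ∀ g ∈ D.group F, ∀ w ∈ I, (g : Matrix D.Idx D.Idx F) *ᵥ w ∈ I) : Subgroup ↥(D.group F) where
  carrier := {g | ∀ w, ((g : GL D.Idx F) : Matrix D.Idx D.Idx F) *ᵥ w - w ∈ I}
  mul_mem' := by
    intro a b ha hb w
    have h1 := hI a.1 a.2 _ (hb w)
    have h3 := I.add_mem h1 (ha w)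
    rw [Matrix.mulVec_sub, Matrix.mulVec_mulVec, sub_add_sub_cancel, ← Units.val_mul] at h3
    exact h3
  one_mem' := by
    intro w
    show ((1 : GL D.Idx F) : Matrix D.Idx D.Idx F) *ᵥ w - w ∈ I
    rw [Units.val_one, Matrix.one_mulVec, sub_self]; exact I.zero_mem
  inv_mem' := by
    intro a ha w
    have h1 := hI (a.1)⁻¹ ((D.group F).inv_mem a.2) _ (ha w)
    rw [Matrix.mulVec_sub, Matrix.mulVec_mulVec, ← Units.val_mul, inv_mul_cancel, Units.val_one,
      Matrix.one_mulVec] at h1
    have h3 := I.neg_mem h1
    rw [neg_sub] at h3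
    exact h3

theorem kerQ_normal {I : Submodule F (D.Idx → F)}
    (hI : ∀ g ∈ D.group F, ∀ w ∈ I, (g : Matrix D.Idx D.Idx F) *ᵥ w ∈ I) : (kerQ I hI).Normal := by
  constructor
  intro n hn g w
  have h1 := hI g.1 g.2 _ (hn (((g.1)⁻¹ : GL D.Idx F) *ᵥ w))
  rw [Matrix.mulVec_sub, Matrix.mulVec_mulVec, Matrix.mulVec_mulVec, Matrix.mulVec_mulVec, ← Units.val_mul,
    ← Units.val_mul, ← Units.val_mul, mul_inv_cancel, Units.val_one, Matrix.one_mulVec] at h1
  exact h1

include L in
/-- **an ideal with a nontrivial element of the group trivial on the quotient is everything** -/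
theorem eq_top (h2 : (2 : F) ≠ 0) {I : Submodule F (D.Idx → F)} (hI : ∀ x, ∀ w ∈ I, adv (adR D F) x *ᵥ w ∈ I)
    {g : GL D.Idx F} (hg : g ∈ D.group F) (hg1 : g ≠ 1) (hgI : ∀ w, (g : Matrix D.Idx D.Idx F) *ᵥ w - w ∈ I) :
    I = ⊤ := by
  have hI' : ∀ g ∈ D.group F, ∀ w ∈ I, (g : Matrix D.Idx D.Idx F) *ᵥ w ∈ I :=
    fun g hg w hw => group_mem L h2 hI hg hw
  have hs := (Cfsg.Agent.S1054.result (F := F) D L.mem).1
  have hn := kerQ_normal hI'
  have htop : kerQ I hI' = ⊤ := by
    rcases hn.eq_bot_or_eq_top with h | h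
    · exfalso
      have h1 : (⟨g, hg⟩ : ↥(D.group F)) ∈ kerQ I hI' := hgI
      rw [h, Subgroup.mem_bot] at h1
      exact hg1 (congrArg Subtype.val h1)
    · exact h
  have hx : ∀ (r : Fin D.nroots) (t : F) (w : D.Idx → F), D.xMat F r t *ᵥ w - w ∈ I := by
    intro r t w
    have h1 : (⟨Cfsg.Agent.ChevalleyStructure.Elts.xG L.inList r.val t,
        Cfsg.Agent.ChevalleyStructure.Elts.xG_mem_group L.inList r.val t⟩ : ↥(D.group F)) ∈ kerQ I hI' := by
      rw [htop]; exact Subgroup.mem_top _
    have h3 := h1 w
    simp only [Cfsg.Agent.ChevalleyStructure.Elts.coe_xG,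
      Cfsg.Agent.ChevalleyStructure.Elts.x_of_lt r.isLt] at h3
    exact h3
  have hgood := fun r (hr : r < D.nroots) => Cfsg.Agent.ChevalleyStructure.Good.goodAt_of_mem D L.inList r hr
  -- the column of `-r`
  have hcol : ∀ (r : Fin D.nroots) (t : F), (∑ i : Fin D.rank, ((cor D r.val i.val : ℤ) : F) • t •
      (Pi.single (Sum.inl i) (1 : F) : D.Idx → F)) - t ^ 2 • (Pi.single (Sum.inr r) (1 : F) : D.Idx → F) ∈ I := by
    intro r t
    let s : Fin D.nroots := ⟨D.negIdx.getD r.val 0, (hgood r.val r.isLt).neg_lt⟩
    have hsr : s ≠ r := fun h => (hgood r.val r.isLt).neg_ne (congrArg Fin.val h)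
    have h1 := hx r t (Pi.single (Sum.inr s) 1)
    have h3 : D.xMat F r t *ᵥ (Pi.single (Sum.inr s) 1) - Pi.single (Sum.inr s) 1 =
      (∑ i : Fin D.rank, ((cor D r.val i.val : ℤ) : F) • t •
      (Pi.single (Sum.inl i) (1 : F) : D.Idx → F)) - t ^ 2 • (Pi.single (Sum.inr r) (1 : F) : D.Idx → F) := by
      funext v
      rw [Pi.sub_apply, Matrix.mulVec_single_one, Matrix.col_apply, xMat_neg D r t v s rfl hsr]
      simp only [Pi.sub_apply, Finset.sum_apply, Pi.smul_apply, smul_eq_mul]
      have e1 : ∀ k : D.Idx, (Pi.single k (1 : F) : D.Idx → F) v = if v = k then 1 else 0 := fun k =>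
        Pi.single_apply _ _ _
      have e2 : ∀ u : Fin D.nroots, dl F D v u.val = if v = Sum.inr u then 1 else 0 := by
        intro u
        rcases v with j | w
        · rw [dl_inl, if_neg (by simp)]
        · rw [dl_inr]
          simp [Fin.ext_iff]
      rw [e1, e1, e2, e2]
      simp only [e1]
      have e3 : ∀ i : Fin D.rank, ((cor D r.val i.val : ℤ) : F) * (t * if v = Sum.inl i then 1 else 0) =
        ((cor D r.val i.val : ℤ) : F) * t * (if v = Sum.inl i then 1 else 0) := fun i => (mul_assoc _ _ _).symm
      simp only [e3]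
      ring
    rwa [h3] at h1
  have he : ∀ r : Fin D.nroots, (Pi.single (Sum.inr r) (1 : F) : D.Idx → F) ∈ I := by
    intro r
    have h1 := hcol r 1
    have h3 := hcol r (-1)
    have h4 := I.neg_mem (I.add_mem h1 h3)
    have h5 : -((∑ i : Fin D.rank, ((cor D r.val i.val : ℤ) : F) • (1 : F) •
      (Pi.single (Sum.inl i) (1 : F) : D.Idx → F)) - (1 : F) ^ 2 • (Pi.single (Sum.inr r) (1 : F) : D.Idx → F) +
      ((∑ i : Fin D.rank, ((cor D r.val i.val : ℤ) : F) • (-1 : F) •
      (Pi.single (Sum.inl i) (1 : F) : D.Idx → F)) - (-1 : F) ^ 2 • (Pi.single (Sum.inr r) (1 : F) : D.Idx → F))) =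
      (2 : F) • (Pi.single (Sum.inr r) (1 : F) : D.Idx → F) := by
      have e1 : (∑ i : Fin D.rank, ((cor D r.val i.val : ℤ) : F) • (-1 : F) •
        (Pi.single (Sum.inl i) (1 : F) : D.Idx → F)) = - ∑ i : Fin D.rank, ((cor D r.val i.val : ℤ) : F) • (1 : F) •
        (Pi.single (Sum.inl i) (1 : F) : D.Idx → F) := by
        rw [← Finset.sum_neg_distrib]
        exact Finset.sum_congr rfl fun i _ => by rw [neg_smul, smul_neg]
      rw [e1]
      module
    rw [h5] at h4
    exact (Submodule.smul_mem_iff _ h2).1 h4
  have hh : ∀ i : Fin D.rank, (Pi.single (Sum.inl i) (1 : F) : D.Idx → F) ∈ I := by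
    intro i
    obtain ⟨hs1, hs2⟩ := L.sim i.val i.isLt
    have h1 := hcol ⟨D.simple i.val, hs1⟩ 1
    have h3 := I.add_mem h1 (I.smul_mem ((1 : F) ^ 2) (he ⟨D.simple i.val, hs1⟩))
    rw [sub_add_cancel, Finset.sum_eq_single i] at h3
    · rw [hs2 i.val i.isLt, if_pos rfl, Int.cast_one, one_smul, one_smul] at h3
      exact h3
    · intro j _ hj
      rw [hs2 j.val j.isLt, if_neg (fun h => hj (Fin.ext h)), Int.cast_zero, zero_smul]
    · intro h; exact absurd (Finset.mem_univ _) h
  rw [eq_top_iff]
  intro w _
  have hw : w = ∑ j, w j • (Pi.single j (1 : F) : D.Idx → F) := by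
    ext k
    simp [Finset.sum_apply, Pi.single_apply]
  rw [hw]
  refine Submodule.sum_mem _ fun j _ => I.smul_mem _ ?_
  rcases j with i | r
  · exact hh i
  · exact he r

end Cfsg.Agent.H351.SpSix.IdealE
end
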